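import Cfsg.Agent.Recognition.HeisSL.Iso

/-!
Construction of the multiplicative bijection from the model.
-/

set_option autoImplicit false
set_option linter.unusedSectionVars false

open Matrix
open scoped MatrixGroups

namespace Cfsg.Lib.HeisSL

/-- The coordinate map of the normal subgroup. -/
def phi {X : Type*} [Group X] (a b c : X) (i j z : ZMod 3) : X := pw a i * pw b j * pw c (z + i * j)

section

variable {X : Type*} [Group X] {a b c : X}

theorem phi_mul (a3 : a ^ 3 = 1) (b3 : b ^ 3 = 1) (c3 : c ^ 3 = 1) (ca : Commute c a) (cb : Commute c b)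
    (h : a * b * a⁻¹ * b⁻¹ = c) (i j z k l w : ZMod 3) :
    phi a b c i j z * phi a b c k l w = phi a b c (i + k) (j + l) (z + w + 2 * (i * l - j * k)) := by
  have hba : b * a = a * b * c⁻¹ := by
    rw [((ca.mul_right cb).inv_left.eq).symm, ← h]
    group
  have hJ : pw b j * pw a k = pw a k * pw b j * pw c (-(j * k)) := by
    rw [← pw_inv c3, pw, pw, pw, jacobi_rule ca.inv_left cb.inv_left hba, inv_pow, ← pw_natCast c3,
      Nat.cast_mul, ZMod.natCast_zmod_val, ZMod.natCast_zmod_val]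
    rfl
  calc phi a b c i j z * phi a b c k l w
      = pw a i * pw b j * (pw c (z + i * j) * pw a k) * (pw b l * pw c (w + k * l)) := by
        simp only [phi]; group
    _ = pw a i * (pw b j * pw a k) * (pw c (z + i * j) * pw b l) * pw c (w + k * l) := by
        rw [show pw c (z + i * j) * pw a k = pw a k * pw c (z + i * j) from (ca.pow_pow _ _).eq]
        group
    _ = pw a i * (pw a k * pw b j * pw c (-(j * k))) * (pw b l * pw c (z + i * j)) * pw c (w + k * l) := by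
        rw [hJ, show pw c (z + i * j) * pw b l = pw b l * pw c (z + i * j) from (cb.pow_pow _ _).eq]
    _ = pw a i * pw a k * pw b j * (pw c (-(j * k)) * pw b l) * (pw c (z + i * j) * pw c (w + k * l)) := by group
    _ = pw a (i + k) * pw b (j + l) * (pw c (-(j * k)) * (pw c (z + i * j) * pw c (w + k * l))) := by
        rw [show pw c (-(j * k)) * pw b l = pw b l * pw c (-(j * k)) from (cb.pow_pow _ _).eq, pw_add a3, pw_add b3]
        group
    _ = _ := by
        rw [← pw_add c3, ← pw_add c3, phi]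
        have h3 : (3 : ZMod 3) = 0 := rfl
        congr 2
        linear_combination -(i * l) * h3

theorem phi_zero : phi a b c 0 0 0 = 1 := by simp [phi, pw_zero]

theorem phi_a : phi a b c 1 0 0 = a := by simp [phi, pw_zero, pw_one]

theorem phi_b : phi a b c 0 1 0 = b := by simp [phi, pw_zero, pw_one]

theorem phi_c (z : ZMod 3) : phi a b c 0 0 z = pw c z := by simp [phi, pw_zero]

theorem phi_pow (a3 : a ^ 3 = 1) (b3 : b ^ 3 = 1) (c3 : c ^ 3 = 1) (ca : Commute c a) (cb : Commute c b)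
    (h : a * b * a⁻¹ * b⁻¹ = c) (i j z k : ZMod 3) :
    pw (phi a b c i j z) k = phi a b c (k * i) (k * j) (k * z) := by
  have hn : ∀ n : ℕ, phi a b c i j z ^ n = phi a b c (n * i) (n * j) (n * z) := by
    intro n
    induction n with
    | zero => simp [phi_zero]
    | succ n ih =>
      rw [pow_succ, ih, phi_mul a3 b3 c3 ca cb h]
      push_cast
      congr 1 <;> ring
  rw [pw, hn, ZMod.natCast_zmod_val]

end

namespace Shape

variable {X : Type*} [Group X] [Finite X] {R : Subgroup X} {c₀ : X}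

theorem exists_iso (P : Shape R c₀) (π : X →* SL(2, ZMod 3)) (hker : π.ker = R) (hsurj : Function.Surjective π)
    (hO2 : ∀ s : X, s * s = 1 → (∀ g, g * s = s * g) → s = 1)
    (hE : ∃ E : Subgroup X, IsMulCommutative E ∧ (∀ a ∈ E, a ^ 3 = 1) ∧ Nat.card E = 27)
    (hnab : ∃ r ∈ R, ∃ s ∈ R, r * s ≠ s * r) :
    ∃ Ψ : Mdl → X, Function.Bijective Ψ ∧ ∀ m n, Ψ (m * n) = Ψ m * Ψ n := by
  classical
  haveI := P.nR
  obtain ⟨t, ht, ht2⟩ := P.exists_t π hker hsurj
  have hti : t⁻¹ = t := inv_eq_of_mul_eq_one_right ht2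
  have mem : ∀ g, g ∈ R ↔ π g = 1 := fun g => by rw [← hker, MonoidHom.mem_ker]
  have c3₀ := P.exp c₀ P.cmem
  obtain ⟨r₀, hr₀, s₀, hs₀, hne⟩ := hnab
  obtain ⟨ka, hat⟩ := P.exists_inverted π hker hsurj hO2 ht ht2 hr₀
  obtain ⟨kb, hbt⟩ := P.exists_inverted π hker hsurj hO2 ht ht2 hs₀
  obtain ⟨a, ha⟩ : ∃ a, a = r₀ * pw c₀ ka := ⟨_, rfl⟩
  obtain ⟨b, hb⟩ : ∃ b, b = s₀ * pw c₀ kb := ⟨_, rfl⟩
  rw [← ha] at hat
  rw [← hb] at hbt
  have haR : a ∈ R := ha ▸ mul_mem hr₀ (P.pwc_mem ka)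
  have hbR : b ∈ R := hb ▸ mul_mem hs₀ (P.pwc_mem kb)
  have a3 := P.exp a haR
  have b3 := P.exp b hbR
  obtain ⟨c, hc⟩ : ∃ c, c = a * b * a⁻¹ * b⁻¹ := ⟨_, rfl⟩
  have hcc₀ : c = r₀ * s₀ * r₀⁻¹ * s₀⁻¹ := by
    have hz : ∀ k g, g * pw c₀ k = pw c₀ k * g := fun k g =>
      (((show Commute c₀ g from (P.central π hker hsurj g).symm).pow_left _).eq).symm
    rw [hc, ha, hb, _root_.mul_inv_rev, _root_.mul_inv_rev,
      show r₀ * pw c₀ ka * (s₀ * pw c₀ kb) * ((pw c₀ ka)⁻¹ * r₀⁻¹) * ((pw c₀ kb)⁻¹ * s₀⁻¹) =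
        r₀ * (pw c₀ ka * s₀) * (pw c₀ kb * (pw c₀ ka)⁻¹) * (r₀⁻¹ * (pw c₀ kb)⁻¹) * s₀⁻¹ by group,
      pw_inv c3₀, pw_inv c3₀, ← hz ka s₀, hz (-kb) r₀⁻¹, ← pw_add c3₀]
    calc r₀ * (s₀ * pw c₀ ka) * pw c₀ (kb + -ka) * (pw c₀ (-kb) * r₀⁻¹) * s₀⁻¹
        = r₀ * s₀ * (pw c₀ ka * pw c₀ (kb + -ka) * pw c₀ (-kb)) * r₀⁻¹ * s₀⁻¹ := by group
      _ = _ := by rw [← pw_add c3₀, ← pw_add c3₀, show ka + (kb + -ka) + -kb = 0 by ring, pw_zero, mul_one]
  obtain ⟨kc, hkc⟩ : ∃ k, c = pw c₀ k := by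
    obtain ⟨k, hk⟩ := P.der r₀ hr₀ s₀ hs₀
    exact ⟨k, hcc₀.trans hk⟩
  have hc1 : c ≠ 1 := fun h => hne (by rwa [hcc₀, mul_inv_eq_one, mul_inv_eq_iff_eq_mul] at h)
  have hcR : c ∈ R := hkc ▸ P.pwc_mem kc
  have c3 := P.exp c hcR
  have hcg : ∀ g, Commute c g := fun g => hkc ▸ (show Commute c₀ g from (P.central π hker hsurj g).symm).pow_left _
  have ca := hcg a
  have cb := hcg b
  have hmulφ := fun i j z k l w => phi_mul a3 b3 c3 ca cb hc.symm i j z k l w
  have hφR : ∀ i j z, phi a b c i j z ∈ R := fun i j z =>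
    mul_mem (mul_mem (pow_mem haR _) (pow_mem hbR _)) (pow_mem hcR _)
  have pwc_inj : ∀ k, pw c k = 1 → k = 0 := by
    intro k e
    rcases (show ∀ k : ZMod 3, k = 0 ∨ k = 1 ∨ k = -1 by decide) k with h | h | h <;> subst h
    · rfl
    · rw [pw_one] at e; exact absurd e hc1
    · rw [← pw_inv c3, pw_one, inv_eq_one] at e; exact absurd e hc1
  -- injectivity of the coordinates
  have hφ1 : ∀ i j z, phi a b c i j z = 1 → i = 0 ∧ j = 0 ∧ z = 0 := by
    intro i j z h
    have e1 : phi a b c i j z * phi a b c 0 1 0 = phi a b c 0 1 0 * phi a b c i j z := by rw [h, one_mul, mul_one]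
    have e2 : phi a b c i j z * phi a b c 1 0 0 = phi a b c 1 0 0 * phi a b c i j z := by rw [h, one_mul, mul_one]
    rw [hmulφ, hmulφ] at e1 e2
    simp only [phi, add_comm j 1, add_comm i 1, add_zero, zero_add, mul_zero, zero_mul, mul_one, one_mul,
      sub_zero, zero_sub] at e1 e2
    have cancel : ∀ x u v, x * pw c u = x * pw c v → u = v := fun x u v e => by
      have e' := mul_left_cancel e
      refine sub_eq_zero.1 (pwc_inj _ ?_)
      rw [sub_eq_add_neg, pw_add c3, e', ← pw_inv c3, mul_inv_cancel]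
    have f1 := cancel _ _ _ e1
    have f2 := cancel _ _ _ e2
    have hi : i = 0 := (show ∀ i j z : ZMod 3, z + 2 * i + i * (1 + j) = z + 2 * -i + i * (1 + j) → i = 0 by
      decide) i j z f1
    have hj : j = 0 := (show ∀ i j z : ZMod 3, z + 2 * -j + (1 + i) * j = z + 2 * j + (1 + i) * j → j = 0 by
      decide) i j z f2
    subst hi hj
    rw [phi_c] at h
    exact ⟨rfl, rfl, pwc_inj z h⟩
  have hφinj : ∀ i j z k l w, phi a b c i j z = phi a b c k l w → i = k ∧ j = l ∧ z = w := by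
    intro i j z k l w h
    have e0 : phi a b c (-k) (-l) (-w) * phi a b c k l w = 1 := by
      rw [hmulφ, ← phi_zero (a := a) (b := b) (c := c)]; congr 1 <;> ring
    rw [← h, hmulφ] at e0
    obtain ⟨q1, q2, q3⟩ := hφ1 _ _ _ e0
    rw [neg_add_eq_zero] at q1 q2
    subst q1 q2
    exact ⟨rfl, rfl, by linear_combination q3⟩
  have hφsurj : ∀ r ∈ R, ∃ i j z, phi a b c i j z = r := by
    let f : ZMod 3 × ZMod 3 × ZMod 3 → R := fun v => ⟨phi a b c v.1 v.2.1 v.2.2, hφR _ _ _⟩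
    have hb : Function.Bijective f := (Nat.bijective_iff_injective_and_card f).2 ⟨fun v w h => by
      obtain ⟨q1, q2, q3⟩ := hφinj _ _ _ _ _ _ (congrArg Subtype.val h)
      exact Prod.ext q1 (Prod.ext q2 q3), by simp [P.cardR]⟩
    intro r hr
    obtain ⟨v, hv⟩ := hb.2 ⟨r, hr⟩
    exact ⟨_, _, _, congrArg Subtype.val hv⟩
  -- the action of the involution
  have htφ : ∀ i j z, t * phi a b c i j z * t = phi a b c (-i) (-j) z := by
    intro i j z
    have key : ∀ x : X, x ^ 3 = 1 → t * x * t = x⁻¹ → ∀ k, t * pw x k * t = pw x (-k) := by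
      intro x x3 hx k
      rw [← pw_inv x3, pw, ← inv_pow, ← hx]
      conv_lhs => enter [2]; rw [← hti]
      conv_rhs => enter [1, 2]; rw [← hti]
      rw [← conj_pow]
    calc t * phi a b c i j z * t = t * pw a i * t * (t * pw b j * t) * (t * (pw c (z + i * j) * t)) := by
          simp only [phi, mul_assoc]; rw [← mul_assoc t t, ht2, one_mul, ← mul_assoc t t, ht2, one_mul]
      _ = pw a (-i) * pw b (-j) * pw c (z + i * j) := by
          rw [key a a3 hat, key b b3 hbt, show pw c (z + i * j) * t = t * pw c (z + i * j) from ((hcg t).pow_left _).eq, ← mul_assoc t t, ht2, one_mul]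
      _ = _ := by simp only [phi, neg_mul_neg]
  obtain ⟨K, htK, hKt, hKbij⟩ := P.exists_complement π hker hsurj hO2 hE ht ht2
  have hexρ : ∀ g : K, ∀ i j, ∃ v : ZMod 3 × ZMod 3, (g : X) * phi a b c i j 0 * (g : X)⁻¹ = phi a b c v.1 v.2 0 := by
    intro g i j
    obtain ⟨k, l, w, hw⟩ := hφsurj _ (P.nR.conj_mem _ (hφR i j 0) g)
    refine ⟨(k, l), ?_⟩
    have e : t * ((g : X) * phi a b c i j 0 * (g : X)⁻¹) * t =
        (g : X) * (t * phi a b c i j 0 * t) * (g : X)⁻¹ := by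
      have hgi : (g : X)⁻¹ * t = t * (g : X)⁻¹ := by
        rw [inv_mul_eq_iff_eq_mul, ← mul_assoc, hKt g g.2, mul_inv_cancel_right]
      calc t * ((g : X) * phi a b c i j 0 * (g : X)⁻¹) * t = (t * g) * phi a b c i j 0 * ((g : X)⁻¹ * t) := by group
        _ = _ := by rw [hgi, ← hKt g g.2]; group
    rw [← hw, htφ, htφ] at e
    have e2 : phi a b c (-k) (-l) w * phi a b c k l w = 1 := by
      rw [e, hw, show (g : X) * phi a b c (-i) (-j) 0 * (g : X)⁻¹ * ((g : X) * phi a b c i j 0 * (g : X)⁻¹) =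
        (g : X) * (phi a b c (-i) (-j) 0 * phi a b c i j 0) * (g : X)⁻¹ by group, hmulφ]
      have : phi a b c (-i + i) (-j + j) (0 + 0 + 2 * (-i * j - -j * i)) = 1 := by
        rw [← phi_zero (a := a) (b := b) (c := c)]; congr 1 <;> ring
      rw [this, mul_one, mul_inv_cancel]
    rw [hmulφ] at e2
    have hw0 : w = 0 := by
      have := (hφ1 _ _ _ e2).2.2
      exact (show ∀ k l w : ZMod 3, w + w + 2 * (-k * l - -l * k) = 0 → w = 0 by decide) k l w this
    rw [← hw, hw0]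
  choose ρ hρ using hexρ
  let e1 : K → ZMod 3 × ZMod 3 := fun g => ρ g 1 0
  let e2 : K → ZMod 3 × ZMod 3 := fun g => ρ g 0 1
  have hdet : ∀ g : K, (!![(e1 g).1, (e2 g).1; (e1 g).2, (e2 g).2] : Matrix (Fin 2) (Fin 2) (ZMod 3)).det = 1 := by
    intro g
    have ea := hρ g 1 0
    have eb := hρ g 0 1
    rw [phi_a] at ea
    rw [phi_b] at eb
    have ec : c * phi a b c (e2 g).1 (e2 g).2 0 * phi a b c (e1 g).1 (e1 g).2 0 =
        phi a b c (e1 g).1 (e1 g).2 0 * phi a b c (e2 g).1 (e2 g).2 0 := by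
      rw [← ea, ← eb]
      calc c * ((g : X) * b * (g : X)⁻¹) * ((g : X) * a * (g : X)⁻¹) = (c * g) * (b * a) * (g : X)⁻¹ := by group
        _ = g * (c * b * a) * (g : X)⁻¹ := by rw [(hcg g).eq]; group
        _ = g * (a * b) * (g : X)⁻¹ := by rw [hc]; group
        _ = _ := by group
    nth_rw 1 [← pw_one c, ← phi_c (a := a) (b := b)] at ec
    simp only [hmulφ] at ec
    have h := (hφinj _ _ _ _ _ _ ec).2.2
    rw [Matrix.det_fin_two_of]
    exact (show ∀ p q r s : ZMod 3, 1 + 0 + 2 * (0 * s - 0 * r) + 0 + 2 * ((0 + r) * q - (0 + s) * p) =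
      0 + 0 + 2 * (p * s - q * r) → p * s - r * q = 1 by decide) _ _ _ _ h
  let Am : K → SL(2, ZMod 3) := fun g => ⟨_, hdet g⟩
  have hconj : ∀ (g : K) (i j z : ZMod 3), (g : X) * phi a b c i j z * (g : X)⁻¹ =
      phi a b c ((Am g).1 0 0 * i + (Am g).1 0 1 * j) ((Am g).1 1 0 * i + (Am g).1 1 1 * j) z := by
    intro g i j z
    have ea := hρ g 1 0
    have eb := hρ g 0 1
    rw [phi_a] at ea
    rw [phi_b] at eb
    have dist : ∀ u v : X, (g : X) * (u * v) * (g : X)⁻¹ = ((g : X) * u * (g : X)⁻¹) * ((g : X) * v * (g : X)⁻¹) :=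
      fun u v => by group
    rw [phi, dist, dist, pw, pw, ← conj_pow, ← conj_pow, ea, eb,
      show (g : X) * pw c (z + i * j) * (g : X)⁻¹ = pw c (z + i * j) by
        rw [← show pw c (z + i * j) * (g : X) = g * pw c (z + i * j) from ((hcg g).pow_left _).eq, mul_inv_cancel_right]]
    rw [show phi a b c (ρ g 1 0).1 (ρ g 1 0).2 0 ^ i.val = phi a b c (i * (ρ g 1 0).1) (i * (ρ g 1 0).2) (i * 0)
      from phi_pow a3 b3 c3 ca cb hc.symm _ _ _ _,
      show phi a b c (ρ g 0 1).1 (ρ g 0 1).2 0 ^ j.val = phi a b c (j * (ρ g 0 1).1) (j * (ρ g 0 1).2) (j * 0)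
      from phi_pow a3 b3 c3 ca cb hc.symm _ _ _ _,
      ← phi_c (a := a) (b := b), hmulφ, hmulφ]
    have hd := hdet g
    rw [Matrix.det_fin_two_of] at hd
    have h3 : (3 : ZMod 3) = 0 := rfl
    simp only [Am, e1, e2, Matrix.of_apply, Matrix.cons_val', Matrix.cons_val_zero, Matrix.cons_val_one,
      Matrix.cons_val_fin_one, Matrix.empty_val'] at hd ⊢
    congr 1
    · ring
    · ring
    · linear_combination (2 * i * j) * hd + (i * j) * h3
  have hAmul : ∀ g h : K, Am (g * h) = Am g * Am h := by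
    intro g h
    have key : ∀ i j, (Am (g * h)).1 0 0 * i + (Am (g * h)).1 0 1 * j = (Am g * Am h).1 0 0 * i + (Am g * Am h).1 0 1 * j ∧
        (Am (g * h)).1 1 0 * i + (Am (g * h)).1 1 1 * j = (Am g * Am h).1 1 0 * i + (Am g * Am h).1 1 1 * j := by
      intro i j
      have e := hconj (g * h) i j 0
      rw [Subgroup.coe_mul, _root_.mul_inv_rev,
        show (g : X) * h * phi a b c i j 0 * ((h : X)⁻¹ * (g : X)⁻¹) = g * ((h : X) * phi a b c i j 0 * (h : X)⁻¹) * (g : X)⁻¹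
        by group, hconj, hconj] at e
      obtain ⟨q1, q2, -⟩ := hφinj _ _ _ _ _ _ e
      rw [← q1, ← q2]
      simp [Matrix.SpecialLinearGroup.coe_mul, Matrix.mul_apply, Fin.sum_univ_two]
      constructor <;> ring
    apply Subtype.ext
    ext u v
    have k1 := key 1 0
    have k2 := key 0 1
    simp only [mul_one, mul_zero, add_zero, zero_add] at k1 k2
    fin_cases u <;> fin_cases v
    exacts [k1.1, k2.1, k1.2, k2.2]
  let Ah : K →* SL(2, ZMod 3) := MonoidHom.mk' Am hAmul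
  -- injectivity
  have hAinj : Function.Injective Ah := by
    rw [injective_iff_map_eq_one]
    intro g hg
    by_contra hne
    have htnot : Am ⟨t, htK⟩ ≠ 1 := fun h => by
      have e := hconj ⟨t, htK⟩ 1 0 0
      rw [h, phi_a] at e
      simp [Matrix.one_apply, phi_a] at e
      obtain ⟨r, hr, hrt⟩ := P.not_centralises π hker hsurj ht ht2 hO2
      have e' : a * a = 1 := by
        rw [hti] at e
        rw [hat] at e
        nth_rw 1 [← e]
        exact inv_mul_cancel a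
      have ha1 : a = 1 := by rwa [pow_succ, pow_two, e', one_mul] at a3
      exact hne (by exfalso; exact hc1 (by rw [hc, ha1]; group))
    let eK : K ≃* SL(2, ZMod 3) := MulEquiv.ofBijective (π.comp K.subtype) hKbij
    have et : eK ⟨t, htK⟩ = -1 := ht
    rcases exists_neg_one_comm (eK g) (fun h => hne (eK.injective (h.trans (map_one eK).symm))) with h | ⟨B, h⟩
    · rw [← et] at h
      exact htnot ((congrArg Ah (eK.injective h)).symm.trans hg)
    · obtain ⟨h', rfl⟩ := eK.surjective B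
      have hz : Ah (g * h' * g⁻¹ * h'⁻¹) = 1 := by rw [map_mul, map_mul, map_mul, map_inv, map_inv, hg]; group
      rw [← map_inv eK, ← map_inv eK, ← map_mul, ← map_mul, ← map_mul, ← map_pow, ← map_pow, ← et,
        eK.injective.eq_iff, eK.injective.eq_iff] at h
      refine htnot ?_
      show Ah ⟨t, htK⟩ = 1
      rcases h with h | h <;> rw [← h, map_pow, hz, one_pow]
  have hKcard : Nat.card K = 24 := by rw [Nat.card_congr (Equiv.ofBijective _ hKbij), card_sl]
  have hAbij : Function.Bijective Ah := (Nat.bijective_iff_injective_and_card _).2 ⟨hAinj, by rw [hKcard, card_sl]⟩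
  let k : SL(2, ZMod 3) ≃* K := (MulEquiv.ofBijective Ah hAbij).symm
  have hk : ∀ A, Am (k A) = A := fun A => (MulEquiv.ofBijective Ah hAbij).apply_symm_apply A
  refine ⟨fun m => phi a b c m.i m.j m.z * (k m.A : X), ⟨?_, ?_⟩, ?_⟩
  · intro m n h
    have hπ : π (k m.A : X) = π (k n.A : X) := by
      have := congrArg π h
      simpa [(mem _).1 (hφR m.i m.j m.z), (mem _).1 (hφR n.i n.j n.z)] using this
    have hA : m.A = n.A := k.injective (hKbij.1 hπ)
    simp only [hA] at h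
    obtain ⟨q1, q2, q3⟩ := hφinj _ _ _ _ _ _ (mul_right_cancel h)
    exact Mdl.ext q1 q2 q3 hA
  · intro x
    obtain ⟨g, hg⟩ := hKbij.2 (π x)
    obtain ⟨A, rfl⟩ := k.surjective g
    have hg' : π ((k A : K) : X) = π x := hg
    obtain ⟨i, j, z, h⟩ := hφsurj (x * ((k A : K) : X)⁻¹) ((mem _).2 (by
      rw [map_mul, map_inv, hg', mul_inv_cancel]))
    exact ⟨⟨i, j, z, A⟩, by show phi a b c i j z * _ = x; rw [h, inv_mul_cancel_right]⟩
  · intro m n
    calc phi a b c (m * n).i (m * n).j (m * n).z * (k (m * n).A : X)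
        = phi a b c m.i m.j m.z * ((k m.A : X) * phi a b c n.i n.j n.z * (k m.A : X)⁻¹) * ((k m.A : X) * k n.A) := by
          rw [hconj, hk, hmulφ, mul_i, mul_j, mul_z, mul_A, map_mul, Subgroup.coe_mul]
      _ = _ := by group

end Shape

end Cfsg.Lib.HeisSL
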