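import Cfsg.Agent.Recognition.HeisSL.Shape

/-!
The isomorphism between the model and a group of shape `3^{1+2}.SL(2,3)`.
-/

set_option autoImplicit false
set_option linter.unusedSectionVars false

open Matrix
open scoped MatrixGroups

namespace Cfsg.Lib.HeisSL

theorem jacobi_rule {X : Type*} [Group X] {a b d : X} (ha : Commute d a) (hb : Commute d b) (h : b * a = a * b * d)
    (m n : ℕ) : b ^ m * a ^ n = a ^ n * b ^ m * d ^ (m * n) := by
  have h1 : ∀ m : ℕ, b ^ m * a = a * b ^ m * d ^ m := by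
    intro m
    induction m with
    | zero => simp
    | succ m ih =>
      rw [pow_succ', mul_assoc, ih, ← mul_assoc, ← mul_assoc, h, mul_assoc (a * b), (hb.pow_right m).eq,
        pow_succ' d]
      simp only [mul_assoc, pow_succ' b]
  induction n with
  | zero => simp
  | succ n ih =>
    calc b ^ m * a ^ (n + 1) = b ^ m * a ^ n * a := by rw [pow_succ, mul_assoc]
      _ = a ^ n * b ^ m * (d ^ (m * n) * a) := by rw [ih, mul_assoc]
      _ = a ^ n * (b ^ m * a) * d ^ (m * n) := by rw [(ha.pow_left _).eq]; group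
      _ = a ^ n * a * b ^ m * (d ^ m * d ^ (m * n)) := by rw [h1]; group
      _ = _ := by rw [← pow_succ, ← pow_add, show m + m * n = m * (n + 1) by ring]

namespace Shape

variable {X : Type*} [Group X] [Finite X] {R : Subgroup X} {c : X} (P : Shape R c)
  (π : X →* SL(2, ZMod 3)) (hker : π.ker = R) (hsurj : Function.Surjective π)
  (hO2 : ∀ s : X, s * s = 1 → (∀ g, g * s = s * g) → s = 1)
  (hE : ∃ E : Subgroup X, IsMulCommutative E ∧ (∀ a ∈ E, a ^ 3 = 1) ∧ Nat.card E = 27)
  (hnab : ∃ r ∈ R, ∃ s ∈ R, r * s ≠ s * r)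
  {t : X} (ht : π t = -1) (ht2 : t * t = 1)

include P hker hsurj hO2 ht ht2

theorem inverted_unique {r s : X} (hr : r ∈ R) (hs : s ∈ R) (hrt : t * r * t = r⁻¹) (hst : t * s * t = s⁻¹)
    {k : ZMod 3} (h : s = r * pw c k) : k = 0 := by
  have c3 := P.exp c P.cmem
  have hz : pw c k * t = t * pw c k :=
    ((show Commute c t from (P.central π hker hsurj t).symm).pow_left _).eq
  have e : pw c k = pw c (-k) := by
    have h1 := hst
    rw [h, _root_.mul_inv_rev, pw_inv c3, P.pwc_comm (-k) (inv_mem hr),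
      show t * (r * pw c k) * t = t * r * (pw c k * t) by group, hz,
      show t * r * (t * pw c k) = t * r * t * pw c k by group, hrt] at h1
    exact mul_left_cancel h1
  have e2 : pw c (k + k) = 1 := by rw [pw_add c3]; nth_rw 2 [e]; rw [← pw_add c3, add_neg_cancel, pw_zero]
  rcases (show ∀ k : ZMod 3, k = 0 ∨ k = 1 ∨ k = -1 by decide) k with h' | h' | h' <;> subst h'
  · rfl
  · rw [show (1 : ZMod 3) + 1 = -1 from rfl, ← pw_inv c3, pw_one, inv_eq_one] at e2
    exact absurd e2 P.cne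
  · rw [show (-1 : ZMod 3) + -1 = 1 from rfl, pw_one] at e2
    exact absurd e2 P.cne

theorem exists_inverted {r : X} (hr : r ∈ R) : ∃ k : ZMod 3, t * (r * pw c k) * t = (r * pw c k)⁻¹ := by
  have c3 := P.exp c P.cmem
  haveI := P.nR
  have hti : t⁻¹ = t := inv_eq_of_mul_eq_one_right ht2
  have htr : t * r * t ∈ R := by simpa [hti] using P.nR.conj_mem r hr t
  obtain ⟨w, hw⟩ : ∃ w, w = r * (t * r * t) := ⟨_, rfl⟩
  have hwR : w ∈ R := hw ▸ mul_mem hr htr
  obtain ⟨k, hk⟩ := P.der (t * r * t) htr r hr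
  have e1 : t * w * t = pw c k * w := by
    calc t * w * t = t * r * t * r * (t * t) := by
          rw [hw]; simp only [mul_assoc]
      _ = t * r * t * r * (t * r * t)⁻¹ * r⁻¹ * (r * (t * r * t)) := by rw [ht2]; group
      _ = pw c k * w := by rw [hk, hw]
  have hzt : pw c k * t = t * pw c k :=
    ((show Commute c t from (P.central π hker hsurj t).symm).pow_left _).eq
  have e2 : pw c (k + k) = 1 := by
    have : w = pw c k * pw c k * w := by
      calc w = t * (t * w * t) * t := by simp only [mul_assoc, ht2, mul_one]; rw [← mul_assoc, ht2, one_mul]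
        _ = (t * pw c k) * w * t := by rw [e1]; group
        _ = pw c k * (t * w * t) := by rw [← hzt]; group
        _ = _ := by rw [e1, mul_assoc]
    rw [pw_add c3]
    exact right_eq_mul.1 this
  have hk0 : k = 0 := by
    rcases (show ∀ k : ZMod 3, k = 0 ∨ k = 1 ∨ k = -1 by decide) k with h | h | h <;> subst h
    · rfl
    · rw [show (1 : ZMod 3) + 1 = -1 from rfl, ← pw_inv c3, pw_one, inv_eq_one] at e2
      exact absurd e2 P.cne
    · rw [show (-1 : ZMod 3) + -1 = 1 from rfl, pw_one] at e2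
      exact absurd e2 P.cne
  rw [hk0, pw_zero, one_mul] at e1
  obtain ⟨l, hl⟩ := P.fixed_central π hker hsurj ht ht2 hO2 hwR (by
    calc t * w = t * w * t * t := by rw [mul_assoc _ t t, ht2, mul_one]
      _ = w * t := by rw [e1])
  refine ⟨l, ?_⟩
  have hlt : pw c l * t = t * pw c l :=
    ((show Commute c t from (P.central π hker hsurj t).symm).pow_left _).eq
  calc t * (r * pw c l) * t = t * r * (pw c l * t) := by group
    _ = t * r * t * pw c l := by rw [hlt]; group
    _ = r⁻¹ * w * pw c l := by rw [hw]; group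
    _ = r⁻¹ * pw c (l + l) := by rw [hl, pw_add c3, mul_assoc]
    _ = pw c (l + l) * r⁻¹ := (P.pwc_comm _ (inv_mem hr)).symm
    _ = (r * pw c l)⁻¹ := by
      rw [_root_.mul_inv_rev, pw_inv c3, (show ∀ l : ZMod 3, l + l = -l by decide) l]

include hE in
theorem exists_y : ∃ y : X, y ∉ R ∧ y ^ 3 = 1 ∧ y * t = t * y := by
  classical
  haveI := P.nR
  have mem : ∀ g, g ∈ R ↔ π g = 1 := fun g => by rw [← hker, MonoidHom.mem_ker]
  obtain ⟨E, hEc, hE3, hE27⟩ := hE
  have hcomm : ∀ x ∈ E, ∀ y ∈ E, x * y = y * x := fun x hx y hy =>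
    congrArg Subtype.val (hEc.is_comm.comm (⟨x, hx⟩ : E) ⟨y, hy⟩)
  have hR9 : 9 ≤ Nat.card (R.subgroupOf E) := by
    have h := Subgroup.card_mul_index (R.subgroupOf E)
    have h2 : (R.subgroupOf E).index ∣ 24 := by
      rw [← congrArg (fun V : Subgroup X => (V.subgroupOf E).index) hker, ← Subgroup.relIndex,
        Subgroup.relIndex_ker]
      exact card_sl ▸ Subgroup.card_subgroup_dvd_card _
    have h3 : (R.subgroupOf E).index ∣ 27 := hE27 ▸ Subgroup.index_dvd_card _
    have h4 := Nat.le_of_dvd (by norm_num) (Nat.dvd_gcd h2 h3)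
    norm_num at h4
    rw [hE27] at h
    nlinarith
  obtain ⟨a, haE, haR⟩ : ∃ a ∈ E, a ∉ R := by
    by_contra h
    push Not at h
    have hEq : E = R := Subgroup.eq_of_le_of_card_ge h (by rw [P.cardR, hE27])
    obtain ⟨r, hr, hrt⟩ := P.not_centralises π hker hsurj ht ht2 hO2
    have htt : ∀ z ∈ R, ∀ w ∈ R, z * w = w * z := hEq ▸ hcomm
    have huniv : ∀ z ∈ R, ∃ k, z = pw c k := fun z hz => P.ctr z hz fun w hw => htt z hz w hw
    obtain ⟨k, rfl⟩ := huniv r hr
    exact hrt (((show Commute c t from (P.central π hker hsurj t).symm).pow_left _).eq).symm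
  obtain ⟨u, huE, huR, huZ⟩ : ∃ u ∈ E, u ∈ R ∧ ∀ k, u ≠ pw c k := by
    by_contra h
    push Not at h
    let f : ZMod 3 → X := pw c
    have : (((R.subgroupOf E : Subgroup E) : Set E).image Subtype.val) ⊆ Set.range f := by
      rintro _ ⟨x, hx, rfl⟩
      obtain ⟨k, hk⟩ := h x x.2 hx
      exact ⟨k, hk.symm⟩
    have h1 := Set.ncard_le_ncard this
    rw [Set.ncard_image_of_injective _ Subtype.val_injective, ← Nat.card_coe_set_eq] at h1
    have h2 : (Set.range f).ncard ≤ 3 := by
      rw [← Set.image_univ]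
      exact (Set.ncard_image_le).trans (by rw [Set.ncard_univ, Nat.card_zmod])
    simp only [SetLike.coe_sort_coe] at h1
    omega
  -- correct `a` to commute with `t`
  obtain ⟨r, hr, hrt⟩ := P.shift π hker hsurj ht ht2 a
  refine ⟨r * a, fun h => haR (by simpa using mul_mem (inv_mem hr) h), ?_, hrt⟩
  obtain ⟨l, hl⟩ := P.exists_inverted π hker hsurj hO2 ht ht2 huR
  have hau : a * u * a⁻¹ = u := by rw [hcomm a haE u huE, mul_inv_cancel_right]
  obtain ⟨m, hm⟩ := P.der r hr u huR
  have hzu := P.pwc_mem l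
  have c3 := P.exp c P.cmem
  have hy : r * a * (u * pw c l) * (r * a)⁻¹ = u * pw c l * pw c m := by
    have hzc : ∀ g, g * pw c l = pw c l * g := fun g =>
      (((show Commute c g from (P.central π hker hsurj g).symm).pow_left _).eq).symm
    calc r * a * (u * pw c l) * (r * a)⁻¹ = r * (a * u * (pw c l * a⁻¹)) * r⁻¹ := by group
      _ = r * (a * u * a⁻¹) * (pw c l * r⁻¹) := by rw [← hzc]; group
      _ = r * u * r⁻¹ * u⁻¹ * (u * pw c l) := by rw [hau, ← hzc]; group
      _ = u * pw c l * pw c m := by rw [hm, P.pwc_comm m (mul_mem huR hzu)]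
  have hm0 : m = 0 := by
    refine P.inverted_unique π hker hsurj hO2 ht ht2 (mul_mem huR hzu) (P.nR.conj_mem _ (mul_mem huR hzu) _) hl ?_ hy
    have e : (r * a)⁻¹ * t = t * (r * a)⁻¹ := by
      rw [inv_mul_eq_iff_eq_mul, ← mul_assoc, hrt, mul_inv_cancel_right]
    calc t * (r * a * (u * pw c l) * (r * a)⁻¹) * t = t * (r * a) * (u * pw c l) * ((r * a)⁻¹ * t) := by group
      _ = r * a * (t * (u * pw c l) * t) * (r * a)⁻¹ := by rw [e, ← hrt]; group
      _ = _ := by rw [hl]; group
  rw [hm0, pw_zero, mul_inv_eq_one, mul_inv_eq_iff_eq_mul] at hm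
  -- the centralizer of `u` in `R` lies in `E`
  have hrE : r ∈ E := by
    obtain ⟨C, hC⟩ : ∃ C : Subgroup X, C = R ⊓ Subgroup.centralizer {u} := ⟨_, rfl⟩
    have hCR : C ≤ R := hC ▸ inf_le_left
    have hle : R ⊓ E ≤ C := hC ▸ fun x hx => ⟨hx.1, Subgroup.mem_centralizer_singleton_iff.2 (hcomm x hx.2 u huE)⟩
    have hne : C ≠ R := fun h => by
      obtain ⟨k, hk⟩ := P.ctr u huR fun w hw => (Subgroup.mem_centralizer_singleton_iff.1
        ((hC ▸ h.symm ▸ hw : w ∈ R ⊓ Subgroup.centralizer {u})).2).symm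
      exact huZ k hk
    have h1 : Nat.card C ∣ 27 := P.cardR ▸ Subgroup.card_dvd_of_le hCR
    have h2 : Nat.card C < 27 := P.cardR ▸ lt_of_le_of_ne (Subgroup.card_le_of_le hCR) fun h =>
      hne (Subgroup.eq_of_le_of_card_ge hCR h.ge)
    have h3 : Nat.card (R.subgroupOf E) = Nat.card (R ⊓ E : Subgroup X) := by
      rw [← Subgroup.inf_subgroupOf_right, Nat.card_congr (Subgroup.subgroupOfEquivOfLe inf_le_right).toEquiv]
    have h4 : Nat.card C ≤ 9 := by
      obtain ⟨i, hi, e⟩ := (Nat.dvd_prime_pow Nat.prime_three).1 (show Nat.card C ∣ 3 ^ 3 from h1)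
      rw [e] at h2 ⊢
      interval_cases i <;> omega
    have heq : R ⊓ E = C := Subgroup.eq_of_le_of_card_ge hle (by omega)
    have : r ∈ C := hC ▸ ⟨hr, Subgroup.mem_centralizer_singleton_iff.2 hm⟩
    rw [← heq] at this
    exact this.2
  exact hE3 _ (mul_mem hrE haE)

include hE in
theorem exists_complement : ∃ K : Subgroup X, t ∈ K ∧ (∀ g ∈ K, g * t = t * g) ∧
    Function.Bijective (fun g : K => π g) := by
  classical
  obtain ⟨y, hyR, hy3, hyt⟩ := P.exists_y π hker hsurj hO2 hE ht ht2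
  have c3 := P.exp c P.cmem
  have mem : ∀ g, g ∈ R ↔ π g = 1 := fun g => by rw [← hker, MonoidHom.mem_ker]
  let C := Subgroup.centralizer ({t} : Set X)
  have hCt : ∀ {g}, g ∈ C ↔ g * t = t * g := Subgroup.mem_centralizer_singleton_iff
  let cC : C := ⟨c, hCt.2 (P.central π hker hsurj t).symm⟩
  let yC : C := ⟨y, hCt.2 hyt⟩
  have hcy : ∀ k l : ZMod 3, Commute (pw cC k) (pw yC l) := fun k l => (Commute.pow_pow (Subtype.ext
    (P.central π hker hsurj y).symm : Commute cC yC) _ _)
  have cC3 : cC ^ 3 = 1 := Subtype.ext c3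
  have yC3 : yC ^ 3 = 1 := Subtype.ext hy3
  let j : Multiplicative (ZMod 3 × ZMod 3) →* C :=
    { toFun := fun v => pw cC v.toAdd.1 * pw yC v.toAdd.2
      map_one' := by simp [pw_zero]
      map_mul' := fun v w => by
        simp only [toAdd_mul, Prod.fst_add, Prod.snd_add, pw_add cC3, pw_add yC3]
        exact (hcy _ _).mul_mul_mul_comm _ _ }
  have hyC : ∀ l : ZMod 3, ((pw yC l : C) : X) ∈ R → l = 0 := by
    intro l hl
    have e : ((pw yC l : C) : X) = pw y l := rfl
    rw [e] at hl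
    rcases (show ∀ k : ZMod 3, k = 0 ∨ k = 1 ∨ k = -1 by decide) l with h | h | h <;> subst h
    · rfl
    · rw [pw_one] at hl; exact absurd hl hyR
    · rw [← pw_inv hy3, pw_one] at hl; exact absurd (inv_mem_iff.1 hl) hyR
  have hj : Function.Injective j := by
    rw [injective_iff_map_eq_one]
    intro v hv
    have h2 : v.toAdd.2 = 0 := hyC _ (by
      have e := congrArg Subtype.val hv
      have e' : ((pw cC v.toAdd.1 : C) : X) * ((pw yC v.toAdd.2 : C) : X) = 1 := e
      rw [eq_inv_of_mul_eq_one_right e']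
      exact inv_mem (P.pwc_mem _))
    have h1 : pw cC v.toAdd.1 = 1 := by
      have : pw cC v.toAdd.1 * pw yC v.toAdd.2 = 1 := hv
      rwa [h2, pw_zero, mul_one] at this
    have h1' : v.toAdd.1 = 0 := by
      have e : pw c v.toAdd.1 = 1 := congrArg Subtype.val h1
      rcases (show ∀ k : ZMod 3, k = 0 ∨ k = 1 ∨ k = -1 by decide) v.toAdd.1 with h | h | h <;> rw [h] at e
      · exact h
      · rw [pw_one] at e; exact absurd e P.cne
      · rw [← pw_inv c3, pw_one, inv_eq_one] at e; exact absurd e P.cne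
    exact Multiplicative.toAdd.injective (Prod.ext h1' h2)
  let H : Subgroup C := j.range
  have hHcard : Nat.card H = 9 := by
    rw [← Nat.card_congr (MonoidHom.ofInjective hj).toEquiv]
    simp
  -- the order of the centralizer
  let πC := π.comp C.subtype
  have hπC : Function.Surjective πC := by
    intro A
    obtain ⟨g, rfl⟩ := hsurj A
    obtain ⟨r, hr, hrg⟩ := P.shift π hker hsurj ht ht2 g
    exact ⟨⟨r * g, hCt.2 hrg⟩, by show π (r * g) = π g; rw [map_mul, (mem r).1 hr, one_mul]⟩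
  have hkC : Nat.card πC.ker = 3 := by
    let f : ZMod 3 → πC.ker := fun k => ⟨pw cC k, show π (pw c k) = 1 from (mem _).1 (P.pwc_mem k)⟩
    have hf : Function.Bijective f := by
      refine ⟨fun k l h => ?_, fun g => ?_⟩
      · have e : j (Multiplicative.ofAdd (k, 0)) = j (Multiplicative.ofAdd (l, 0)) := by
          show pw cC k * pw yC 0 = pw cC l * pw yC 0
          exact congrArg (· * pw yC 0) (congrArg Subtype.val h)
        exact congrArg Prod.fst (Multiplicative.ofAdd.injective (hj e))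
      · obtain ⟨k, hk⟩ := P.fixed_central π hker hsurj ht ht2 hO2 ((mem _).2 g.2)
          (hCt.1 g.1.2).symm
        exact ⟨k, Subtype.ext (Subtype.ext hk.symm)⟩
    rw [← Nat.card_congr (Equiv.ofBijective f hf), Nat.card_zmod]
  have hCcard : Nat.card C = 72 := by
    have h := Subgroup.card_mul_index πC.ker
    rw [Subgroup.index_ker, MonoidHom.range_eq_top.2 hπC, Subgroup.card_top, card_sl, hkC] at h
    omega
  have hidx : H.index = 8 := by
    have h := H.card_mul_index
    rw [hHcard, hCcard] at h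
    omega
  let ψ : Multiplicative (ZMod 3 × ZMod 3) →* Multiplicative (ZMod 3) :=
    AddMonoidHom.toMultiplicative (AddMonoidHom.fst (ZMod 3) (ZMod 3))
  let χ : H →* Multiplicative (ZMod 3) := ψ.comp (MonoidHom.ofInjective hj).symm.toMonoidHom
  haveI : H.FiniteIndex := ⟨by omega⟩
  let V : C →* Multiplicative (ZMod 3) := MonoidHom.transfer χ
  have hHc : ∀ k, pw cC k ∈ H := fun k => ⟨Multiplicative.ofAdd (k, 0), by
    show pw cC k * pw yC 0 = _
    rw [pw_zero, mul_one]⟩
  have hV : ∀ k, V (pw cC k) = Multiplicative.ofAdd (2 * k) := by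
    intro k
    have hcomm : ∀ g : C, g * pw cC k = pw cC k * g := fun g =>
      (((show Commute cC g from Subtype.ext (P.central π hker hsurj g).symm)).pow_left _).eq.symm
    rw [MonoidHom.transfer_eq_pow χ (pw cC k) (fun n g _ => by
      rw [mul_assoc, ← ((show Commute g (pw cC k) from hcomm g).pow_right n).eq, inv_mul_cancel_left])]
    have e : (⟨pw cC k ^ H.index, MonoidHom.transfer_eq_pow_aux _ (fun n g _ => by
        rw [mul_assoc, ← ((show Commute g (pw cC k) from hcomm g).pow_right n).eq, inv_mul_cancel_left])⟩ : H) =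
        MonoidHom.ofInjective hj (Multiplicative.ofAdd (2 * k, 0)) := by
      apply Subtype.ext
      show pw cC k ^ H.index = pw cC (2 * k) * pw yC 0
      rw [pw_zero, mul_one, hidx, pw, ← pow_mul, ← pw_natCast cC3, Nat.cast_mul, ZMod.natCast_zmod_val,
        mul_comm]
      rfl
    rw [e]
    show ψ ((MonoidHom.ofInjective hj).symm (MonoidHom.ofInjective hj _)) = _
    rw [MulEquiv.symm_apply_apply]
    rfl
  refine ⟨V.ker.map C.subtype, ⟨⟨t, hCt.2 rfl⟩, ?_, rfl⟩, ?_, ?_⟩
  · rw [SetLike.mem_coe, MonoidHom.mem_ker]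
    have h2 : V ⟨t, hCt.2 rfl⟩ ^ 2 = 1 := by
      rw [← map_pow, show (⟨t, hCt.2 rfl⟩ : C) ^ 2 = 1 from Subtype.ext (by push_cast; rw [pow_two, ht2]), map_one]
    exact (show ∀ v : Multiplicative (ZMod 3), v ^ 2 = 1 → v = 1 by decide) _ h2
  · rintro _ ⟨g, -, rfl⟩
    exact hCt.1 g.2
  · constructor
    · rintro ⟨_, g, hg, rfl⟩ ⟨_, h, hh, rfl⟩ e
      have e' : π (g : X) = π (h : X) := e
      obtain ⟨k, hk⟩ := P.fixed_central π hker hsurj ht ht2 hO2
        (u := (g : X) * (h : X)⁻¹) ((mem _).2 (by rw [map_mul, map_inv, e', mul_inv_cancel]))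
        ((hCt.1 (g * h⁻¹).2).symm)
      have hgh : g * h⁻¹ = pw cC k := Subtype.ext hk
      have h1 : V (g * h⁻¹) = 1 := V.mem_ker.1 (mul_mem hg (inv_mem hh))
      rw [hgh, hV] at h1
      have : k = 0 := (show ∀ k : ZMod 3, Multiplicative.ofAdd (2 * k) = 1 → k = 0 by decide) k h1
      rw [this, pw_zero, mul_inv_eq_one] at hgh
      subst hgh
      rfl
    · intro A
      obtain ⟨g, hg⟩ := hπC A
      obtain ⟨k, hk⟩ : ∃ k, Multiplicative.ofAdd (2 * k) = V g :=
        ⟨2 * (V g).toAdd, (show ∀ v : Multiplicative (ZMod 3), Multiplicative.ofAdd (2 * (2 * v.toAdd)) = v by decide) _⟩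
      refine ⟨⟨(((pw cC k)⁻¹ * g : C) : X), (pw cC k)⁻¹ * g, ?_, rfl⟩, ?_⟩
      · rw [SetLike.mem_coe, MonoidHom.mem_ker, map_mul, map_inv, hV, hk, inv_mul_cancel]
      · show π ((pw c k)⁻¹ * g) = A
        rw [map_mul, map_inv, (mem _).1 (P.pwc_mem k), inv_one, one_mul]
        exact hg

end Shape

end Cfsg.Lib.HeisSL
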