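import Mathlib

/-!
The semidirect product of the Heisenberg group of order 27 by `SL(2,3)` as a set with a
multiplication, and its matrices in the symplectic group of dimension four.
-/

set_option autoImplicit false
set_option linter.unusedSectionVars false

open Matrix
open scoped MatrixGroups

namespace Cfsg.Lib.HeisSL

/-- A point of the model. -/
@[ext]
structure Mdl where
  i : ZMod 3
  j : ZMod 3
  z : ZMod 3
  A : SL(2, ZMod 3)

instance : Mul Mdl := ⟨fun m n =>
  { i := m.i + (m.A.1 0 0 * n.i + m.A.1 0 1 * n.j)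
    j := m.j + (m.A.1 1 0 * n.i + m.A.1 1 1 * n.j)
    z := m.z + n.z + 2 * (m.i * (m.A.1 1 0 * n.i + m.A.1 1 1 * n.j) - m.j * (m.A.1 0 0 * n.i + m.A.1 0 1 * n.j))
    A := m.A * n.A }⟩

@[simp] theorem mul_i (m n : Mdl) : (m * n).i = m.i + (m.A.1 0 0 * n.i + m.A.1 0 1 * n.j) := rfl
@[simp] theorem mul_j (m n : Mdl) : (m * n).j = m.j + (m.A.1 1 0 * n.i + m.A.1 1 1 * n.j) := rfl
@[simp] theorem mul_z (m n : Mdl) : (m * n).z = m.z + n.z +
    2 * (m.i * (m.A.1 1 0 * n.i + m.A.1 1 1 * n.j) - m.j * (m.A.1 0 0 * n.i + m.A.1 0 1 * n.j)) := rfl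
@[simp] theorem mul_A (m n : Mdl) : (m * n).A = m.A * n.A := rfl

variable {F : Type*} [Field F] [CharP F 3]

/-- The scalars. -/
def ι (F : Type*) [Field F] [CharP F 3] : ZMod 3 →+* F := ZMod.castHom dvd_rfl F

/-- The matrix of a point. -/
def mat (m : Mdl) : Matrix (Fin 2 ⊕ Fin 2) (Fin 2 ⊕ Fin 2) F :=
  Matrix.fromBlocks
    !![1, ι F (-m.j * m.A.1 0 0 + m.i * m.A.1 1 0); 0, ι F (m.A.1 0 0)]
    !![ι F (2 * m.z), ι F (-m.j * m.A.1 0 1 + m.i * m.A.1 1 1); ι F m.i, ι F (m.A.1 0 1)]
    !![0, 0; 0, ι F (m.A.1 1 0)]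
    !![1, 0; ι F m.j, ι F (m.A.1 1 1)]

theorem det_eq (m : Mdl) : ι F (m.A.1 0 0) * ι F (m.A.1 1 1) - ι F (m.A.1 0 1) * ι F (m.A.1 1 0) = 1 := by
  have h := m.A.2
  rw [Matrix.det_fin_two] at h
  rw [← map_mul, ← map_mul, ← map_sub, h, map_one]

theorem mat_mem (m : Mdl) : mat (F := F) m ∈ symplecticGroup (Fin 2) F := by
  rw [SymplecticGroup.mem_iff]
  have hd := det_eq (F := F) m
  ext (a | a) (b | b) <;> fin_cases a <;> fin_cases b <;>
    simp [mat, Matrix.J, Matrix.mul_apply, Fintype.sum_sum_type, Fin.sum_univ_two, Matrix.transpose_apply,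
      Matrix.fromBlocks, Matrix.one_apply, map_add, map_mul, map_neg] <;>
    first
      | linear_combination hd
      | linear_combination -hd
      | linear_combination (ι F m.i) * hd
      | linear_combination -(ι F m.i) * hd
      | linear_combination (ι F m.j) * hd
      | linear_combination -(ι F m.j) * hd
      | ring1

/-- The symplectic matrix of a point. -/
def sp (m : Mdl) : symplecticGroup (Fin 2) F := ⟨mat m, mat_mem m⟩

set_option maxHeartbeats 1600000 in
theorem sp_mul (m n : Mdl) : sp (F := F) (m * n) = sp m * sp n := by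
  apply Subtype.ext
  have hd := det_eq (F := F) m
  have h3 : (3 : F) = 0 := by exact_mod_cast CharP.cast_eq_zero F 3
  show mat (m * n) = mat m * mat n
  ext (a | a) (b | b) <;> fin_cases a <;> fin_cases b <;>
    simp [mat, Matrix.mul_apply, Fintype.sum_sum_type, Fin.sum_univ_two, Matrix.fromBlocks,
      Matrix.SpecialLinearGroup.coe_mul, map_add, map_mul, map_sub, map_neg,
      show ι F (2 : ZMod 3) = 2 from map_ofNat _ 2] <;>
    first
      | ring1
      | linear_combination (ι F n.i * ι F (n.A.1 1 0) - ι F n.j * ι F (n.A.1 0 0)) * hd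
      | linear_combination (ι F n.i * ι F (n.A.1 1 1) - ι F n.j * ι F (n.A.1 0 1)) * hd
      | linear_combination (ι F m.i * (ι F (m.A.1 1 0) * ι F n.i + ι F (m.A.1 1 1) * ι F n.j) -
          ι F m.j * (ι F (m.A.1 0 0) * ι F n.i + ι F (m.A.1 0 1) * ι F n.j)) * h3
      | fail "no"

theorem ι_inj : Function.Injective (ι F) := (ι F).injective

theorem sp_inj : Function.Injective (sp (F := F)) := by
  intro m n h
  have e : ∀ a b, mat (F := F) m a b = mat n a b := fun a b => by
    rw [show mat (F := F) m = mat n from congrArg Subtype.val h]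
  have e1 : ι F m.i = ι F n.i := e (.inl 1) (.inr 0)
  have e2 : ι F m.j = ι F n.j := e (.inr 1) (.inr 0)
  have e3 : ι F (2 * m.z) = ι F (2 * n.z) := e (.inl 0) (.inr 0)
  refine Mdl.ext (ι_inj e1) (ι_inj e2) (mul_left_cancel₀ (by decide) (ι_inj e3)) (Subtype.ext ?_)
  ext a b
  fin_cases a <;> fin_cases b
  exacts [ι_inj (e (.inl 1) (.inl 1)), ι_inj (e (.inl 1) (.inr 1)), ι_inj (e (.inr 1) (.inl 1)),
    ι_inj (e (.inr 1) (.inr 1))]

/-- The neutral point. -/
def one : Mdl := ⟨0, 0, 0, 1⟩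

/-- The point of the transvection. -/
def tv : Mdl := ⟨0, 0, 2, 1⟩

theorem sp_one : sp (F := F) one = 1 := by
  apply Subtype.ext
  show mat one = 1
  ext (a | a) (b | b) <;> fin_cases a <;> fin_cases b <;> simp [mat, one, Matrix.fromBlocks]

set_option maxHeartbeats 1600000 in
/-- A symplectic matrix commuting with the transvection is a model matrix up to sign. -/
theorem exists_sp [Fintype F] (hF : Fintype.card F = 3) (g : symplecticGroup (Fin 2) F)
    (hg : g * sp tv = sp tv * g) : ∃ m, (g : Matrix _ _ F) = mat m ∨ (g : Matrix _ _ F) = -mat m := by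
  obtain ⟨ev, hev⟩ : ∃ ev : F → ZMod 3, ∀ x, ι F (ev x) = x := by
    have hb : Function.Bijective (ι F) :=
      (Fintype.bijective_iff_injective_and_card _).mpr ⟨ι_inj, by rw [ZMod.card, hF]⟩
    exact ⟨(Equiv.ofBijective _ hb).symm, fun x => (Equiv.ofBijective _ hb).apply_symm_apply x⟩
  obtain ⟨G, hG⟩ := g
  have hc : G * mat tv = mat tv * G := congrArg Subtype.val hg
  have h3 : (3 : F) = 0 := by exact_mod_cast CharP.cast_eq_zero F 3
  have hs := SymplecticGroup.mem_iff.1 hG
  have c : ∀ a b : Fin 2 ⊕ Fin 2, (G * mat (F := F) tv) a b = (mat (F := F) tv * G) a b := fun a b => by rw [hc]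
  have s : ∀ a b : Fin 2 ⊕ Fin 2, (G * J (Fin 2) F * Gᵀ) a b = J (Fin 2) F a b := fun a b => by rw [hs]
  have c1 := c (.inl 1) (.inr 0); have c2 := c (.inr 0) (.inr 0); have c3 := c (.inr 1) (.inr 0)
  have c4 := c (.inl 0) (.inl 0); have c5 := c (.inl 0) (.inl 1); have c6 := c (.inl 0) (.inr 1)
  have c7 := c (.inl 0) (.inr 0)
  have s02 := s (.inl 0) (.inr 0); have s01 := s (.inl 0) (.inl 1); have s03 := s (.inl 0) (.inr 1)
  have s13 := s (.inl 1) (.inr 1)
  have four : (2 : F) * 2 = 1 := by linear_combination h3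
  simp [mat, tv, Matrix.mul_apply, Fintype.sum_sum_type, Fin.sum_univ_two, Matrix.fromBlocks,
    show ι F (2 : ZMod 3) = 2 from map_ofNat _ 2, map_mul, four] at c1 c2 c3 c4 c5 c6 c7
  simp [Matrix.J, Matrix.mul_apply, Fintype.sum_sum_type, Fin.sum_univ_two, Matrix.transpose_apply,
    Matrix.fromBlocks, c1, c2, c3, c4, c5, c6] at s02 s01 s03 s13
  generalize hl : G (.inl 0) (.inl 0) = lam at *
  have h22 : G (.inr 0) (.inr 0) = lam := by linear_combination -c7
  simp [h22] at s02
  have hl2 : lam = 1 ∨ lam = -1 := mul_self_eq_one_iff.1 s02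
  have hll : lam * lam = 1 := s02
  refine ⟨⟨ev (lam * G (.inl 1) (.inr 0)), ev (lam * G (.inr 1) (.inr 0)), ev (lam * G (.inl 0) (.inr 0) * 2),
    ⟨!![ev (lam * G (.inl 1) (.inl 1)), ev (lam * G (.inl 1) (.inr 1));
        ev (lam * G (.inr 1) (.inl 1)), ev (lam * G (.inr 1) (.inr 1))], ?_⟩⟩, ?_⟩
  · apply ι_inj (F := F)
    rw [Matrix.det_fin_two]
    simp [hev]
    linear_combination (-(lam * lam)) * s13 + hll
  · have key : ∀ a b, lam * G a b = mat (F := F) ⟨ev (lam * G (.inl 1) (.inr 0)), ev (lam * G (.inr 1) (.inr 0)),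
        ev (lam * G (.inl 0) (.inr 0) * 2), ⟨!![ev (lam * G (.inl 1) (.inl 1)), ev (lam * G (.inl 1) (.inr 1));
        ev (lam * G (.inr 1) (.inl 1)), ev (lam * G (.inr 1) (.inr 1))], by
          apply ι_inj (F := F)
          rw [Matrix.det_fin_two]
          simp [hev]
          linear_combination (-(lam * lam)) * s13 + hll⟩⟩ a b := by
      rintro (a | a) (b | b) <;> fin_cases a <;> fin_cases b <;>
        simp [mat, Matrix.fromBlocks, hev, hl, h22, c1, c2, c3, c4, c5, c6, hll,
          show ι F (2 : ZMod 3) = 2 from map_ofNat _ 2] <;>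
        first
          | linear_combination (lam * G (.inl 0) (.inl 1)) * s13 + (lam * G (.inr 1) (.inl 1)) * s01 -
              (lam * G (.inl 1) (.inl 1)) * s03
          | linear_combination (lam * G (.inl 0) (.inr 1)) * s13 + (lam * G (.inr 1) (.inr 1)) * s01 -
              (lam * G (.inl 1) (.inr 1)) * s03
          | linear_combination (lam * G (.inl 0) (.inr 0)) * four
          | linear_combination -(lam * G (.inl 0) (.inr 0)) * four
          | fail "no"
    rcases hl2 with h | h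
    · left; ext a b; rw [← key a b, h, one_mul]
    · right; ext a b; rw [Matrix.neg_apply, ← key a b, h, neg_one_mul, neg_neg]

end Cfsg.Lib.HeisSL
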