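import Cfsg.Agent.Recognition.HeisSL.Model
import Cfsg.Prelude.Def_Solvable
import Cfsg.Prelude.Def_Transfer

/-!
A group of shape `3^{1+2}.SL(2,3)` containing an elementary abelian subgroup of order 27 is the model.
-/

set_option autoImplicit false
set_option linter.unusedSectionVars false

open Matrix
open scoped MatrixGroups

namespace Cfsg.Lib.HeisSL

theorem three_gen : ∀ A : SL(2, ZMod 3), ∃ B C D : SL(2, ZMod 3),
    B ^ 3 = 1 ∧ C ^ 3 = 1 ∧ D ^ 3 = 1 ∧ A = B * C * D := by decide +kernel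

theorem exists_neg_one_comm : ∀ A : SL(2, ZMod 3), A ≠ 1 → A = -1 ∨
    ∃ B : SL(2, ZMod 3), (A * B * A⁻¹ * B⁻¹) ^ 3 = -1 ∨ (A * B * A⁻¹ * B⁻¹) ^ 2 = -1 := by decide +kernel

theorem card_sl : Nat.card SL(2, ZMod 3) = 24 := by
  rw [Nat.card_eq_fintype_card]; decide +kernel

section

variable {X : Type*} [Group X]

/-- Powers with exponents modulo three. -/
def pw (x : X) (k : ZMod 3) : X := x ^ k.val

theorem pw_add {x : X} (hx : x ^ 3 = 1) (k l : ZMod 3) : pw x (k + l) = pw x k * pw x l := by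
  rw [pw, pw, pw, ← pow_add, ZMod.val_add, ← pow_eq_pow_mod _ hx]

theorem pw_zero (x : X) : pw x 0 = 1 := by simp [pw]

theorem pw_one (x : X) : pw x 1 = x := by simp [pw, show (1 : ZMod 3).val = 1 from rfl]

theorem pw_natCast {x : X} (hx : x ^ 3 = 1) (n : ℕ) : pw x (n : ZMod 3) = x ^ n := by
  rw [pw, ZMod.val_natCast, ← pow_eq_pow_mod _ hx]

theorem pw_inv {x : X} (hx : x ^ 3 = 1) (k : ZMod 3) : (pw x k)⁻¹ = pw x (-k) :=
  inv_eq_of_mul_eq_one_right (by rw [← pw_add hx, add_neg_cancel, pw_zero])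

/-- Elements with cube in a normal subgroup act trivially on a coset pair. -/
theorem not_inverted {z g : X} (hz3 : z ^ 3 = 1) (hz : z ≠ 1) (hg : Commute (g ^ 3) z)
    (h : g * z * g⁻¹ = z⁻¹) : False := by
  apply hz
  have e : g ^ 3 * z * (g ^ 3)⁻¹ = z⁻¹ := by
    calc g ^ 3 * z * (g ^ 3)⁻¹ = g * (g * (g * z * g⁻¹) * g⁻¹) * g⁻¹ := by simp [pow_succ, mul_assoc]
      _ = g * (g * z⁻¹ * g⁻¹) * g⁻¹ := by rw [h]
      _ = g * (g * z * g⁻¹)⁻¹ * g⁻¹ := by group
      _ = z⁻¹ := by rw [h, inv_inv, h]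
  rw [hg.eq, mul_inv_cancel_right] at e
  have h2 : z * z = 1 := mul_eq_one_iff_eq_inv.2 e
  rw [pow_succ, pow_two, h2, one_mul] at hz3
  exact hz3

variable (R : Subgroup X) (c : X)

/-- The facts about the group and its subgroup. -/
structure Shape : Prop where
  nR : R.Normal
  cardR : Nat.card R = 27
  exp : ∀ r ∈ R, r ^ 3 = 1
  cmem : c ∈ R
  cne : c ≠ 1
  cen : ∀ r ∈ R, c * r = r * c
  ctr : ∀ z ∈ R, (∀ r ∈ R, z * r = r * z) → ∃ k : ZMod 3, z = pw c k
  der : ∀ r ∈ R, ∀ s ∈ R, ∃ k : ZMod 3, r * s * r⁻¹ * s⁻¹ = pw c k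

end

namespace Shape

variable {X : Type*} [Group X] [Finite X] {R : Subgroup X} {c : X} (P : Shape R c)
  (π : X →* SL(2, ZMod 3)) (hker : π.ker = R) (hsurj : Function.Surjective π)

include P

theorem pwc_mem (k : ZMod 3) : pw c k ∈ R := pow_mem P.cmem _

theorem pwc_comm (k : ZMod 3) {r : X} (hr : r ∈ R) : pw c k * r = r * pw c k :=
  ((show Commute c r from P.cen r hr).pow_left _).eq

include hker hsurj

theorem gen_induct (p : X → Prop) (hR : ∀ g, g ^ 3 ∈ R → p g) (hmul : ∀ g h, p g → p h → p (g * h)) :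
    ∀ g, p g := by
  have mem : ∀ g, g ∈ R ↔ π g = 1 := fun g => by rw [← hker, MonoidHom.mem_ker]
  intro g
  obtain ⟨B, C, D, hB, hC, hD, hg⟩ := three_gen (π g)
  obtain ⟨b, rfl⟩ := hsurj B
  obtain ⟨d, rfl⟩ := hsurj C
  obtain ⟨e, rfl⟩ := hsurj D
  have h1 : g * (b * d * e)⁻¹ ∈ R := by rw [mem, map_mul, map_inv, map_mul, map_mul, ← hg, mul_inv_cancel]
  have hp : ∀ x, π x ^ 3 = 1 → p x := fun x hx => hR x (by rw [mem, map_pow, hx])
  rw [show g = g * (b * d * e)⁻¹ * (b * d * e) by group]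
  exact hmul _ _ (hR _ (pow_mem h1 3)) (hmul _ _ (hmul _ _ (hp b hB) (hp d hC)) (hp e hD))

theorem central (g : X) : g * c = c * g := by
  haveI := P.nR
  have c3 := P.exp c P.cmem
  refine P.gen_induct π hker hsurj (fun g => g * c = c * g) (fun g hg => ?_)
    (fun g h hg hh => by rw [mul_assoc, hh, ← mul_assoc, hg, mul_assoc]) g
  obtain ⟨k, hk⟩ := P.ctr (g * c * g⁻¹) (P.nR.conj_mem c P.cmem g) (fun r hr => by
    have hr' : g⁻¹ * r * g ∈ R := by simpa using P.nR.conj_mem r hr g⁻¹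
    calc g * c * g⁻¹ * r = g * (c * (g⁻¹ * r * g)) * g⁻¹ := by group
      _ = g * ((g⁻¹ * r * g) * c) * g⁻¹ := by rw [P.cen _ hr']
      _ = r * (g * c * g⁻¹) := by group)
  rcases (show ∀ k : ZMod 3, k = 0 ∨ k = 1 ∨ k = -1 by decide) k with rfl | rfl | rfl
  · rw [pw_zero, conj_eq_one_iff] at hk
    exact absurd hk P.cne
  · rw [pw_one, mul_inv_eq_iff_eq_mul] at hk
    exact hk
  · rw [← pw_inv c3, pw_one] at hk
    exact (not_inverted c3 P.cne (P.cen _ hg).symm hk).elim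

theorem exists_t : ∃ t : X, π t = -1 ∧ t * t = 1 := by
  obtain ⟨g, hg⟩ := hsurj (-1)
  have h2 : g ^ 2 ∈ R := by rw [← hker, MonoidHom.mem_ker, map_pow, hg]; decide +kernel
  refine ⟨g ^ 3, by rw [map_pow, hg]; decide +kernel, ?_⟩
  rw [← pow_add, show 3 + 3 = 2 * 3 from rfl, pow_mul]
  exact P.exp _ h2

variable {t : X} (ht : π t = -1) (ht2 : t * t = 1)
include ht ht2

theorem t_inv : t⁻¹ = t := inv_eq_of_mul_eq_one_right ht2

theorem shift (g : X) : ∃ r ∈ R, r * g * t = t * (r * g) := by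
  have hti : t⁻¹ = t := inv_eq_of_mul_eq_one_right ht2
  have mem : ∀ g, g ∈ R ↔ π g = 1 := fun g => by rw [← hker, MonoidHom.mem_ker]
  have h0 : g * t * g⁻¹ * t ∈ R := by
    rw [mem, map_mul, map_mul, map_mul, map_inv, ht]
    simp only [mul_neg, mul_one, neg_mul, neg_neg, mul_inv_cancel]
  refine ⟨_, h0, ?_⟩
  obtain ⟨r0, hr⟩ : ∃ r0, r0 = g * t * g⁻¹ * t := ⟨_, rfl⟩
  have e1 : t * r0 * t = r0⁻¹ := by
    rw [hr]
    simp only [_root_.mul_inv_rev, inv_inv, hti, mul_assoc, ht2, mul_one]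
  have e2 : g * t = r0 * t * g := by
    rw [hr, mul_assoc _ t t, ht2, mul_one, inv_mul_cancel_right]
  rw [← hr] at h0 ⊢
  have e3 : r0 * r0 = r0⁻¹ := eq_inv_of_mul_eq_one_left (by rw [mul_assoc, ← pow_two, ← pow_succ', P.exp _ h0])
  calc r0 * g * t = r0 * (g * t) := mul_assoc _ _ _
    _ = r0 * r0 * t * g := by rw [e2]; group
    _ = t * r0 * (t * t) * g := by rw [e3, ← e1]; group
    _ = t * (r0 * g) := by rw [ht2, mul_one, mul_assoc]

theorem not_centralises (hO2 : ∀ s : X, s * s = 1 → (∀ g, g * s = s * g) → s = 1) :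
    ∃ r ∈ R, t * r ≠ r * t := by
  by_contra h
  push Not at h
  have hti : t⁻¹ = t := inv_eq_of_mul_eq_one_right ht2
  have mem : ∀ g, g ∈ R ↔ π g = 1 := fun g => by rw [← hker, MonoidHom.mem_ker]
  have htc : ∀ g, g * t = t * g := by
    intro g
    obtain ⟨u, hu⟩ : ∃ u, u = g * t * g⁻¹ * t := ⟨_, rfl⟩
    have huR : u ∈ R := by
      rw [mem, hu, map_mul, map_mul, map_mul, map_inv, ht]
      simp only [mul_neg, mul_one, neg_mul, neg_neg, mul_inv_cancel]
    have hucomm : ∀ r ∈ R, u * r = r * u := by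
      intro r hr
      have hr' : g⁻¹ * r * g ∈ R := by simpa using P.nR.conj_mem r hr g⁻¹
      calc u * r = g * t * g⁻¹ * (t * r) := by rw [hu]; group
        _ = g * (t * (g⁻¹ * r * g)) * g⁻¹ * t := by rw [h r hr]; group
        _ = g * ((g⁻¹ * r * g) * t) * g⁻¹ * t := by rw [h _ hr']
        _ = r * u := by rw [hu]; group
    have e1 : g * t * g⁻¹ = u * t := by rw [hu, mul_assoc _ t t, ht2, mul_one]
    have e2 : u ^ 2 = 1 := by
      calc u ^ 2 = u * t * (u * t) := by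
            rw [pow_two, mul_assoc u t, ← mul_assoc t u t, h u huR, mul_assoc u t t, ht2, mul_one]
        _ = g * (t * t) * g⁻¹ := by rw [← e1]; group
        _ = 1 := by rw [ht2]; group
    have e3 : u = 1 := by
      have := P.exp u huR
      rwa [pow_succ, e2, one_mul] at this
    rw [e3, one_mul, mul_inv_eq_iff_eq_mul] at e1
    exact e1
  have := hO2 t ht2 htc
  rw [this, map_one] at ht
  exact absurd ht (by decide +kernel)

theorem fixed_central (hO2 : ∀ s : X, s * s = 1 → (∀ g, g * s = s * g) → s = 1) {u : X} (hu : u ∈ R)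
    (hut : t * u = u * t) : ∃ k : ZMod 3, u = pw c k := by
  haveI := P.nR
  classical
  by_contra hno
  have hti : t⁻¹ = t := inv_eq_of_mul_eq_one_right ht2
  obtain ⟨U, hUdef⟩ : ∃ U : Subgroup X, U = R ⊓ Subgroup.centralizer {t} := ⟨_, rfl⟩
  have hUmem : ∀ x, x ∈ U ↔ x ∈ R ∧ t * x = x * t := fun x => by
    rw [hUdef, Subgroup.mem_inf, Subgroup.mem_centralizer_singleton_iff]; tauto
  have hZU : ∀ k, pw c k ∈ U := fun k => (hUmem _).2 ⟨P.pwc_mem k,
    (((show Commute c t from (P.central π hker hsurj t).symm).pow_left _).eq).symm⟩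
  have hUR : U ≤ R := fun x hx => ((hUmem x).1 hx).1
  have hUn : ∀ g, ∀ x ∈ U, g * x * g⁻¹ ∈ U := by
    intro g x hx
    obtain ⟨r, hr, hrg⟩ := P.shift π hker hsurj ht ht2 g
    have hy : r * g * x * (r * g)⁻¹ ∈ U := (hUmem _).2 ⟨P.nR.conj_mem x (hUR hx) _, by
      have e : (r * g)⁻¹ * t = t * (r * g)⁻¹ := by
        rw [inv_mul_eq_iff_eq_mul, ← mul_assoc, hrg, mul_inv_cancel_right]
      calc t * (r * g * x * (r * g)⁻¹) = (t * (r * g)) * x * (r * g)⁻¹ := by group
        _ = r * g * (t * x) * (r * g)⁻¹ := by rw [← hrg]; group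
        _ = r * g * (x * t) * (r * g)⁻¹ := by rw [((hUmem x).1 hx).2]
        _ = r * g * x * (t * (r * g)⁻¹) := by group
        _ = r * g * x * (r * g)⁻¹ * t := by rw [← e]; group⟩
    obtain ⟨k, hk⟩ := P.der r⁻¹ (inv_mem hr) _ (hUR hy)
    have e : g * x * g⁻¹ = r⁻¹ * (r * g * x * (r * g)⁻¹) * r⁻¹⁻¹ * (r * g * x * (r * g)⁻¹)⁻¹ *
        (r * g * x * (r * g)⁻¹) := by group
    rw [e, hk]
    exact mul_mem (hZU k) hy
  obtain ⟨r, hr, hrt⟩ := P.not_centralises π hker hsurj ht ht2 hO2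
  have hrU : r ∉ U := fun h => hrt ((hUmem r).1 h).2
  have huU : u ∈ U := (hUmem u).2 ⟨hu, hut⟩
  have hUcard : Nat.card U = 9 := by
    have h1 : Nat.card U ∣ 27 := P.cardR ▸ Subgroup.card_dvd_of_le hUR
    have h2 : Nat.card U < 27 := P.cardR ▸ lt_of_le_of_ne (Subgroup.card_le_of_le hUR) fun h =>
      hrU ((Subgroup.eq_of_le_of_card_ge hUR h.ge).symm ▸ hr)
    have h3 : 3 < Nat.card U := by
      let f : Option (ZMod 3) → U := fun o => o.elim ⟨u, huU⟩ fun k => ⟨pw c k, hZU k⟩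
      have hf : Function.Injective f := by
        rintro (_ | k) (_ | l) h
        · rfl
        · exact absurd ⟨l, congrArg Subtype.val h⟩ hno
        · exact absurd ⟨k, (congrArg Subtype.val h).symm⟩ hno
        · have e : pw c k = pw c l := congrArg Subtype.val h
          have e' : pw c (k - l) = 1 := by
            rw [sub_eq_add_neg, pw_add (P.exp c P.cmem), e, ← pw_inv (P.exp c P.cmem), mul_inv_cancel]
          have c3 := P.exp c P.cmem
          rcases (show ∀ k : ZMod 3, k = 0 ∨ k = 1 ∨ k = -1 by decide) (k - l) with h | h | h <;> rw [h] at e'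
          · rw [sub_eq_zero.1 h]
          · rw [pw_one] at e'; exact absurd e' P.cne
          · rw [← pw_inv c3, pw_one, inv_eq_one] at e'; exact absurd e' P.cne
      have := Nat.card_le_card_of_injective f hf
      rw [Finite.card_option, Nat.card_zmod] at this
      omega
    obtain ⟨i, hi, e⟩ := (Nat.dvd_prime_pow Nat.prime_three).1 (show Nat.card U ∣ 3 ^ 3 from h1)
    rw [e] at h2 h3 ⊢
    interval_cases i <;> omega
  haveI : U.Normal := ⟨fun x hx g => hUn g x hx⟩
  let q := QuotientGroup.mk' U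
  have hq1 : ∀ x, q x = 1 ↔ x ∈ U := fun x => QuotientGroup.eq_one_iff x
  have qker : q.ker = U := QuotientGroup.ker_mk' U
  have hRq : Nat.card (R.map q) = 3 := by
    have h := Subgroup.card_mul_index ((U).subgroupOf R)
    have h2 : (U.subgroupOf R).index = Nat.card (R.map q) := by
      rw [← congrArg (fun V : Subgroup X => (V.subgroupOf R).index) qker, ← Subgroup.relIndex, Subgroup.relIndex_ker]
    rw [Nat.card_congr (Subgroup.subgroupOfEquivOfLe hUR).toEquiv, hUcard, h2, P.cardR] at h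
    omega
  have h13 : q r ≠ 1 := fun h => hrU ((hq1 r).1 h)
  have q3 : q r ^ 3 = 1 := by rw [← map_pow, P.exp r hr, map_one]
  have hall : ∀ g, q g * q r * (q g)⁻¹ = q r := by
    refine P.gen_induct π hker hsurj _ (fun g hg => ?_) (fun g h hg hh => by
      rw [map_mul, _root_.mul_inv_rev, show q g * q h * q r * ((q h)⁻¹ * (q g)⁻¹) = q g * (q h * q r * (q h)⁻¹) * (q g)⁻¹ by
        group, hh, hg])
    have hmem : q g * q r * (q g)⁻¹ ∈ R.map q := ⟨g * r * g⁻¹, P.nR.conj_mem r hr g, by simp⟩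
    have hcyc : Subgroup.zpowers (q r) = R.map q := Subgroup.eq_of_le_of_card_ge
      (Subgroup.zpowers_le.2 ⟨r, hr, rfl⟩) (by
        rw [hRq, Nat.card_zpowers, orderOf_eq_prime (hp := ⟨Nat.prime_three⟩) q3 h13])
    rw [← hcyc] at hmem
    obtain ⟨k, hk, hk'⟩ := (isOfFinOrder_of_finite (q r)).mem_zpowers_iff_mem_range_orderOf.1 hmem |>
      Finset.mem_image.1
    rw [Finset.mem_range, orderOf_eq_prime (hp := ⟨Nat.prime_three⟩) q3 h13] at hk
    interval_cases k
    · rw [pow_zero] at hk'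
      exact absurd (conj_eq_one_iff.1 hk'.symm) h13
    · rw [pow_one] at hk'
      exact hk'.symm
    · exfalso
      refine not_inverted q3 h13 ?_ (g := q g) (by
        rw [← hk']; exact eq_inv_of_mul_eq_one_left (by rw [← pow_succ, q3]))
      obtain ⟨k, hk⟩ := P.der _ hg r hr
      have e : q (pw c k) = 1 := (hq1 _).2 (hZU k)
      rw [← hk, map_mul, map_mul, map_mul, map_inv, map_inv, map_pow, mul_inv_eq_one,
        mul_inv_eq_iff_eq_mul] at e
      exact e
  have h := hall t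
  rw [← map_inv, ← map_mul, ← map_mul, hti] at h
  have h' : r⁻¹ * (t * r * t) ∈ U := QuotientGroup.eq.1 h.symm
  obtain ⟨w, hw⟩ : ∃ w, w = r⁻¹ * (t * r * t) := ⟨_, rfl⟩
  rw [← hw] at h'
  have e1 : t * r * t = r * w := by rw [hw]; group
  have e2 : r = r * w * w := by
    calc r = t * (t * r * t) * t := by simp only [mul_assoc, ht2, mul_one]; rw [← mul_assoc, ht2, one_mul]
      _ = (t * r) * (w * t) := by rw [e1]; group
      _ = (t * r) * (t * w) := by rw [((hUmem w).1 h').2]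
      _ = r * w * w := by rw [← e1]; group
  have e3 : w * w = 1 := by rw [mul_assoc] at e2; exact left_eq_mul.1 e2
  have e4 : w = 1 := by
    have := P.exp w (hUR h')
    rwa [pow_succ, pow_two, e3, one_mul] at this
  rw [e4, mul_one] at e1
  exact hrt (by calc t * r = t * r * (t * t) := by rw [ht2, mul_one]
                 _ = r * t := by rw [← mul_assoc, e1])

end Shape

end Cfsg.Lib.HeisSL
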